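import Groth.Agent.L27.InvEtale.Core
import Mathlib.RingTheory.Ideal.Pointwise
import Mathlib.RingTheory.Ideal.Operations
import Mathlib.RingTheory.Localization.FractionRing
import Mathlib.FieldTheory.PrimitiveElement
import Mathlib.FieldTheory.Fixed
import Mathlib.Data.Nat.Choose.Lucas
import Mathlib.Algebra.CharP.Lemmas

/-!
# Separating elements for the conjugates of a prime
-/

set_option autoImplicit false
set_option linter.style.haveILetI false
set_option backward.isDefEq.respectTransparency.types false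

universe u

open Polynomial Pointwise

namespace Groth.L27.InvEtale

variable {G R : Type u} [Group G] [Finite G] [CommRing R] [MulSemiringAction G R]

theorem smul_eq_of_le (g : G) (I : Ideal R) (h : g • I ≤ I) : g • I = I := by
  refine le_antisymm h ?_
  have key : ∀ k : ℕ, g ^ (k + 1) • I ≤ g • I := by
    intro k
    induction k with
    | zero => rw [zero_add, pow_one]
    | succ k ih =>
      rw [pow_succ', ← smul_smul]
      refine le_trans ?_ le_rfl
      exact Ideal.pointwise_smul_le_pointwise_smul_iff.2 (ih.trans h)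
  have h1 := key (orderOf g - 1)
  rwa [Nat.sub_add_cancel (orderOf_pos g), pow_orderOf_eq_one, one_smul] at h1

theorem smul_eq_of_le' (g : G) (I : Ideal R) (h : I ≤ g • I) : g • I = I := by
  have h1 : g⁻¹ • I ≤ I := by
    rw [Ideal.pointwise_smul_subset_iff, inv_inv]; exact h
  exact ((inv_smul_eq_iff.mp (smul_eq_of_le g⁻¹ I h1))).symm

variable (q : Ideal R) [q.IsPrime]

/-- An element outside `q`, in every other conjugate of `q`. -/
theorem exists_vanish : ∃ w : R, w ∉ q ∧ ∀ g : G, g • q ≠ q → w ∈ g • q := by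
  classical
  haveI := Fintype.ofFinite G
  have h : ∀ g : G, ∃ w : R, w ∉ q ∧ (g • q ≠ q → w ∈ g • q) := by
    intro g
    by_cases hg : g • q = q
    · exact ⟨1, fun h1 => Ideal.IsPrime.ne_top' ((Ideal.eq_top_iff_one q).2 h1),
        fun h' => absurd hg h'⟩
    · obtain ⟨w, hw, hw'⟩ := SetLike.not_le_iff_exists.1 fun h' => hg (smul_eq_of_le g q h')
      exact ⟨w, hw', fun _ => hw⟩
  choose w hw hw' using h
  refine ⟨∏ g : G, w g, ?_, fun g hg => ?_⟩
  · rw [Ideal.IsPrime.prod_mem_iff]
    rintro ⟨g, -, hg⟩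
    exact hw g hg
  · rw [← Finset.mul_prod_erase Finset.univ w (Finset.mem_univ g)]
    exact Ideal.mul_mem_right _ _ (hw' g hg)

/-- A field with a finite group acting: some element is moved by everything that moves something. -/
theorem exists_moved {Γ L : Type u} [Group Γ] [Finite Γ] [Field L] [MulSemiringAction Γ L] :
    ∃ z : L, ∀ σ : Γ, σ • z = z → ∀ y : L, σ • y = y := by
  obtain ⟨z, hz⟩ := Field.exists_primitive_element (FixedPoints.subfield Γ L) L
  refine ⟨z, fun σ hσ y => ?_⟩
  let φ : L →ₐ[FixedPoints.subfield Γ L] L :=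
    MulSemiringAction.toAlgHom (FixedPoints.subfield Γ L) L σ
  have hφ : φ = AlgHom.id _ _ := by
    refine AlgHom.ext fun x => ?_
    have hx : x ∈ IntermediateField.adjoin (FixedPoints.subfield Γ L) {z} := by rw [hz]; trivial
    induction hx using IntermediateField.adjoin_induction with
    | mem x hx =>
      rw [Set.mem_singleton_iff.mp hx]
      exact hσ
    | algebraMap x => exact φ.commutes x
    | add x y _ _ hx hy => rw [map_add, map_add, hx, hy]
    | inv x _ hx => rw [map_inv₀, map_inv₀, hx]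
    | mul x y _ _ hx hy => rw [map_mul, map_mul, hx, hy]
  exact DFunLike.congr_fun hφ y

/-- An element whose class modulo `q` is moved by every element of the decomposition group which
does not act trivially modulo `q`. -/
theorem exists_moved_mod :
    ∃ x : R, x ∉ q ∧ ∀ d : G, d • q = q → d ∉ q.inertia G → d • x - x ∉ q := by
  classical
  have hone : (1 : R) ∉ q := fun h1 => Ideal.IsPrime.ne_top' ((Ideal.eq_top_iff_one q).2 h1)
  let Γ := MulAction.stabilizer G q
  haveI := Fintype.ofFinite Γ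
  have hle : ∀ (σ : Γ) (a : R), a ∈ q → (σ : G) • a ∈ q := fun σ a ha => by
    have := Ideal.smul_mem_pointwise_smul (σ : G) a q ha
    rwa [σ.2] at this
  letI : SMul Γ (R ⧸ q) :=
    ⟨fun σ => Ideal.quotientMap q (MulSemiringAction.toRingHom G R (σ : G))
      (fun a ha => hle σ a ha)⟩
  have hs : ∀ (σ : Γ) (a : R),
      σ • (Ideal.Quotient.mk q a) = Ideal.Quotient.mk q ((σ : G) • a) := fun _ _ => rfl
  letI : MulSemiringAction Γ (R ⧸ q) :=
    { one_smul := fun b => by
        obtain ⟨b, rfl⟩ := Ideal.Quotient.mk_surjective b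
        rw [hs, OneMemClass.coe_one, one_smul]
      mul_smul := fun s t b => by
        obtain ⟨b, rfl⟩ := Ideal.Quotient.mk_surjective b
        rw [hs, hs, hs, Subgroup.coe_mul, mul_smul]
      smul_zero := fun s => map_zero (Ideal.quotientMap q _ _)
      smul_add := fun s a b => map_add (Ideal.quotientMap q _ _) a b
      smul_one := fun s => map_one (Ideal.quotientMap q _ _)
      smul_mul := fun s a b => map_mul (Ideal.quotientMap q _ _) a b }
  let L := FractionRing (R ⧸ q)
  letI : MulSemiringAction Γ L := IsFractionRing.mulSemiringAction Γ (R ⧸ q) L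
  have hsL : ∀ (σ : Γ) (a : R ⧸ q), σ • algebraMap (R ⧸ q) L a = algebraMap (R ⧸ q) L (σ • a) :=
    fun σ a => IsFractionRing.ringEquivOfRingEquiv_algebraMap _ a
  obtain ⟨z, hz⟩ := exists_moved (Γ := Γ) (L := L)
  obtain ⟨a, b, hb, rfl⟩ := IsFractionRing.div_surjective (R ⧸ q) z
  let N : R ⧸ q := ∏ σ : Γ, σ • b
  have hN : N ≠ 0 := Finset.prod_ne_zero_iff.2 fun σ _ h0 => nonZeroDivisors.ne_zero hb
    ((smul_eq_zero_iff_eq σ).1 h0)
  have hNinv : ∀ σ : Γ, σ • N = N := by
    intro σ
    rw [Finset.smul_prod']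
    exact Fintype.prod_equiv (Equiv.mulLeft σ) _ _ fun τ => by simp [smul_smul]
  let c : R ⧸ q := a * ∏ τ ∈ Finset.univ.erase (1 : Γ), τ • b
  have hc : algebraMap _ L c = (algebraMap _ L a / algebraMap _ L b) * algebraMap _ L N := by
    have hbN : b * ∏ τ ∈ Finset.univ.erase (1 : Γ), τ • b = N := by
      conv_lhs => arg 1; rw [← one_smul Γ b]
      exact Finset.mul_prod_erase Finset.univ (fun τ : Γ => τ • b) (Finset.mem_univ _)
    rw [← hbN, map_mul, map_mul, div_mul_eq_mul_div, mul_left_comm,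
      mul_div_cancel_left₀ _ (IsFractionRing.to_map_ne_zero_of_mem_nonZeroDivisors hb)]
  have key : ∀ σ : Γ, σ • c = c → ∀ y : R, (σ : G) • y - y ∈ q := by
    intro σ hσ y
    have h1 : σ • (algebraMap _ L a / algebraMap _ L b) = algebraMap _ L a / algebraMap _ L b := by
      have h2 := congrArg (algebraMap (R ⧸ q) L) hσ
      rw [← hsL, hc, smul_mul', hsL σ N, hNinv] at h2
      exact mul_right_cancel₀ (by simpa using hN) h2
    have h3 := hz σ h1 (algebraMap _ L (Ideal.Quotient.mk q y))
    rw [hsL, hs] at h3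
    exact Ideal.Quotient.eq.1 (IsFractionRing.injective (R ⧸ q) L h3)
  obtain ⟨x, hx⟩ := Ideal.Quotient.mk_surjective c
  by_cases hc0 : c = 0
  · refine ⟨1, hone, fun d hd hdI => absurd (fun y => ?_) hdI⟩
    exact key ⟨d, hd⟩ (by rw [hc0, smul_zero]) y
  · refine ⟨x, fun hxq => hc0 (hx ▸ Ideal.Quotient.eq_zero_iff_mem.2 hxq), fun d hd hdI h => hdI
      fun y => key ⟨d, hd⟩ ?_ y⟩
    rw [← hx, hs]
    exact Ideal.Quotient.eq.2 h

theorem choose_pow_mul_modEq (p : ℕ) [Fact p.Prime] (m v : ℕ) :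
    (p ^ v * m).choose (p ^ v) ≡ m [MOD p] := by
  induction v with
  | zero => simp [Nat.ModEq]
  | succ v ih =>
    refine Choose.choose_modEq_choose_mod_mul_choose_div_nat.trans ?_
    have hp : 0 < p := (Fact.out : p.Prime).pos
    rw [pow_succ', mul_assoc, Nat.mul_mod_right, Nat.mul_mod_right, Nat.mul_div_cancel_left _ hp,
      Nat.mul_div_cancel_left _ hp, Nat.choose_self, one_mul]
    exact ih

/-- An exponent `P` with `choose n P` nonzero in a domain and `a ↦ a ^ P` injective. -/
theorem exists_exponent (K : Type u) [CommRing K] [IsDomain K] (n : ℕ) (hn : 0 < n) :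
    ∃ P : ℕ, 1 ≤ P ∧ P ≤ n ∧ (n.choose P : K) ≠ 0 ∧ ∀ a b : K, a ^ P = b ^ P → a = b := by
  obtain ⟨p, hp⟩ := CharP.exists K
  rcases CharP.char_is_prime_or_zero K p with hpp | rfl
  · haveI := Fact.mk hpp
    haveI := ExpChar.prime (R := K) hpp
    obtain ⟨v, m, hm, rfl⟩ := Nat.exists_eq_pow_mul_and_not_dvd hn.ne' p hpp.ne_one
    refine ⟨p ^ v, Nat.one_le_pow _ _ hpp.pos, Nat.le_mul_of_pos_right _ (Nat.pos_of_ne_zero
      fun h0 => hm (h0 ▸ dvd_zero p)), ?_, fun a b h => ?_⟩
    · rw [(CharP.natCast_eq_natCast K p).2 (choose_pow_mul_modEq p m v), Ne,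
        CharP.cast_eq_zero_iff K p]
      exact hm
    · exact iterateFrobenius_inj K p v h
  · haveI := CharP.charP_to_charZero K
    exact ⟨1, le_rfl, hn, by simpa using hn.ne', fun a b h => by simpa using h⟩

/-- An inertia invariant whose conjugates differ modulo `q`. -/
theorem exists_inertia_sep :
    ∃ θ : FixedPoints.subring R (q.inertia G),
      ∀ g : G, g ∉ q.inertia G → (θ : R) - g • (θ : R) ∉ q := by
  classical
  haveI := Fintype.ofFinite G
  set I := q.inertia G with hI
  haveI := Fintype.ofFinite I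
  have hId : ∀ i ∈ I, i • q = q := fun i hi => Ideal.inertia_le_stabilizer q hi
  obtain ⟨w, hw, hwv⟩ := exists_vanish (G := G) q
  obtain ⟨x₀, hx₀, hx₀m⟩ := exists_moved_mod (G := G) q
  let Γ := MulAction.stabilizer G q
  haveI := Fintype.ofFinite Γ
  let N : R := ∏ σ : Γ, (σ : G) • w
  have hinv : ∀ (d : G) (a : R), d • q = q → d • a ∈ q → a ∈ q := by
    intro d a hd ha
    rw [← hd] at ha
    exact Ideal.smul_mem_pointwise_smul_iff.1 ha
  have hNq : N ∉ q := by
    rw [Ideal.IsPrime.prod_mem_iff]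
    rintro ⟨σ, -, hσ⟩
    exact hw (hinv σ w σ.2 hσ)
  have hNinv : ∀ d : G, d • q = q → d • N = N := by
    intro d hd
    rw [Finset.smul_prod']
    exact Fintype.prod_equiv (Equiv.mulLeft (⟨d, hd⟩ : Γ)) _ _ fun τ => by simp [smul_smul]
  have hNv : ∀ g : G, g • q ≠ q → N ∈ g • q := by
    intro g hg
    change (∏ σ : Γ, (σ : G) • w) ∈ g • q
    rw [← Finset.mul_prod_erase Finset.univ _ (Finset.mem_univ (1 : Γ))]
    refine Ideal.mul_mem_right _ _ ?_
    change (1 : G) • w ∈ g • q
    rw [one_smul]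
    exact hwv g hg
  let x : R := x₀ * N
  have hxq : x ∉ q := fun h => (Ideal.IsPrime.mem_or_mem inferInstance h).elim hx₀ hNq
  have hxd : ∀ d : G, d • q = q → d ∉ I → d • x - x ∉ q := by
    intro d hd hdI h
    refine hx₀m d hd hdI ((Ideal.IsPrime.mem_or_mem inferInstance
      (show (d • x₀ - x₀) * N ∈ q by rwa [sub_mul, ← show d • x = (d • x₀) * N by
        rw [smul_mul', hNinv d hd]])).resolve_right hNq)
  have hxv : ∀ g : G, g • q ≠ q → x ∈ g • q := fun g hg => Ideal.mul_mem_left _ _ (hNv g hg)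
  -- the coefficient of the inertia orbit polynomial
  let Φ : R[X] := ∏ i : I, (X - C ((i : G) • x))
  obtain ⟨P, hP1, hPn, hPc, hPinj⟩ :=
    exists_exponent (R ⧸ q) (Fintype.card I) Fintype.card_pos
  let j := Fintype.card I - P
  have hΦ : ∀ i : I, (i : G) • Φ.coeff j = Φ.coeff j := by
    intro i
    have h1 : Φ.map (MulSemiringAction.toRingHom G R (i : G)) = Φ := by
      rw [Polynomial.map_prod]
      exact Fintype.prod_equiv (Equiv.mulLeft i) _ _ fun τ => by simp [smul_smul]
    conv_rhs => rw [← h1]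
    rw [coeff_map]
    rfl
  refine ⟨⟨Φ.coeff j, hΦ⟩, fun g hg h => ?_⟩
  change Φ.coeff j - g • Φ.coeff j ∈ q at h
  let mk := Ideal.Quotient.mk q
  have hpoly : ∀ (σ : R →+* R ⧸ q) (a : R ⧸ q), (∀ i : I, σ ((i : G) • x) = a) →
      σ (Φ.coeff j) = (-a) ^ P * ((Fintype.card I).choose P : R ⧸ q) := by
    intro σ a ha
    rw [← coeff_map, Polynomial.map_prod, Finset.prod_congr rfl (g := fun _ => X + C (-a))
      (fun i _ => by rw [Polynomial.map_sub, map_X, map_C, ha i, C_neg, sub_eq_add_neg]),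
      Finset.prod_const, Finset.card_univ, coeff_X_add_C_pow,
      Nat.sub_sub_self hPn, Nat.choose_symm hPn]
  have hθ : mk (Φ.coeff j) = (-mk x) ^ P * ((Fintype.card I).choose P : R ⧸ q) :=
    hpoly mk _ fun i => Ideal.Quotient.eq.2 (i.2 x)
  have h' := Ideal.Quotient.eq.2 h
  change mk (Φ.coeff j) = mk (g • Φ.coeff j) at h'
  rw [hθ] at h'
  by_cases hgd : g • q = q
  · have h2 := hpoly (mk.comp (MulSemiringAction.toRingHom G R g)) (mk (g • x)) fun i => by
      refine Ideal.Quotient.eq.2 ?_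
      rw [MulSemiringAction.toRingHom_apply, ← smul_sub, ← hgd]
      exact Ideal.smul_mem_pointwise_smul _ _ _ (i.2 x)
    change mk (g • Φ.coeff j) = _ at h2
    rw [h2] at h'
    exact hxd g hgd hg (Ideal.Quotient.eq.1 (neg_injective
      (hPinj _ _ (mul_right_cancel₀ hPc h'))).symm)
  · have h2 := hpoly (mk.comp (MulSemiringAction.toRingHom G R g)) 0 fun i => by
      refine Ideal.Quotient.eq_zero_iff_mem.2 ?_
      rw [MulSemiringAction.toRingHom_apply, ← Ideal.mem_inv_pointwise_smul_iff,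
        Ideal.mem_pointwise_smul_iff_inv_smul_mem, inv_inv, smul_smul,
        ← Ideal.mem_inv_pointwise_smul_iff]
      refine hxv _ fun he => hgd ?_
      have he2 := (inv_smul_eq_iff.1 he).symm
      rwa [← smul_smul, hId _ i.2] at he2
    change mk (g • Φ.coeff j) = _ at h2
    rw [h2, neg_zero, zero_pow (by omega), zero_mul] at h'
    exact hxq (Ideal.Quotient.eq_zero_iff_mem.1 (by
      simpa using eq_zero_of_pow_eq_zero ((mul_eq_zero.1 h').resolve_right hPc)))

/-- A subgroup containing the decomposition group: an invariant which is a unit at `q` and vanishes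
at the conjugates outside the orbit of the subgroup. -/
theorem exists_orbit_sep (H : Subgroup G) (hD : MulAction.stabilizer G q ≤ H) :
    ∃ θ : FixedPoints.subring R H, (θ : R) ∉ q ∧ ∀ g : G, g ∉ H → g • (θ : R) ∈ q := by
  classical
  haveI := Fintype.ofFinite G
  haveI := Fintype.ofFinite H
  let J : Ideal R := (Finset.univ.filter fun g : G => g ∉ H).inf fun g => g • q
  have hJ : ∀ h : H, ¬ J ≤ (h : G) • q := by
    intro h hle
    haveI := Ideal.IsPrime.smul (I := q) (h : G)
    obtain ⟨g, hg, hgle⟩ := (Ideal.IsPrime.inf_le' inferInstance).1 hle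
    rw [Ideal.pointwise_smul_subset_iff, smul_smul] at hgle
    have := smul_eq_of_le' _ _ hgle
    have h2 : g⁻¹ * (h : G) ∈ H := hD this
    exact (Finset.mem_filter.1 hg).2 (by
      have h3 := H.mul_mem h.2 (H.inv_mem h2)
      rwa [mul_inv_rev, inv_inv, mul_inv_cancel_left] at h3)
  obtain ⟨w, hwJ, hw⟩ : ∃ w ∈ J, ∀ h : H, w ∉ (h : G) • q := by
    by_contra hcon
    push Not at hcon
    have hsub : (J : Set R) ⊆ ⋃ h ∈ ((Finset.univ : Finset H) : Set H), ((h : G) • q : Ideal R) :=
      fun a ha => by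
        obtain ⟨h, hh⟩ := hcon a ha
        exact Set.mem_iUnion₂.2 ⟨h, Finset.mem_coe.2 (Finset.mem_univ _), hh⟩
    obtain ⟨h, -, hh⟩ := (Ideal.subset_union_prime (f := fun h : H => (h : G) • q) 1 1
      fun h _ _ _ => Ideal.IsPrime.smul (I := q) (h : G)).1 hsub
    exact hJ h hh
  refine ⟨⟨∏ h : H, (h : G) • w, fun k => ?_⟩, ?_, fun g hg => ?_⟩
  · change (k : G) • ∏ h : H, (h : G) • w = _
    rw [Finset.smul_prod']
    exact Fintype.prod_equiv (Equiv.mulLeft k) _ _ fun τ => by simp [smul_smul]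
  · change ∏ h : H, (h : G) • w ∉ q
    rw [Ideal.IsPrime.prod_mem_iff]
    rintro ⟨h, -, hh⟩
    refine hw h⁻¹ ?_
    rw [InvMemClass.coe_inv]
    exact Ideal.mem_inv_pointwise_smul_iff.2 hh
  · change g • ∏ h : H, (h : G) • w ∈ q
    rw [Finset.smul_prod', ← Finset.mul_prod_erase Finset.univ _ (Finset.mem_univ (1 : H))]
    refine Ideal.mul_mem_right _ _ ?_
    rw [OneMemClass.coe_one, one_smul, ← Ideal.mem_inv_pointwise_smul_iff]
    exact Submodule.mem_finsetInf.1 hwJ g⁻¹ (Finset.mem_filter.2 ⟨Finset.mem_univ _,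
      fun hg' => hg (inv_inv g ▸ H.inv_mem hg')⟩)

end Groth.L27.InvEtale
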