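import Groth.Prelude.Def_Pi1
import Mathlib.RingTheory.Etale.StandardEtale
import Mathlib.RingTheory.Etale.Basic
import Mathlib.RingTheory.Localization.Away.Basic
import Mathlib.RingTheory.Polynomial.Subring
import Mathlib.Algebra.Polynomial.Derivative

/-!
# The orbit polynomial of an element of a ring of invariants

Let a finite group `G` act on `R`, let `H` be a subgroup, `A = R^G` and `S = R^H`. For `θ ∈ S` let
`f = ∏ (X - gθ)` over the cosets `gH`. Then `A[X]_{f'}/(f)` is the localisation of `S` at `f'(θ)`.
-/

set_option autoImplicit false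
set_option linter.style.haveILetI false
set_option backward.isDefEq.respectTransparency.types false

universe u

open Polynomial Pi1

namespace Groth.L27.InvEtale

variable {G R : Type u} [Group G] [Finite G] [CommRing R] [MulSemiringAction G R] (H : Subgroup G)

/-- The conjugates of an `H`-invariant element, indexed by cosets. -/
def orb (θ : FixedPoints.subring R H) : G ⧸ H → R :=
  Quotient.lift (fun g => g • (θ : R)) fun g g' hgg' => by
    have h : g⁻¹ * g' ∈ H := QuotientGroup.leftRel_apply.mp hgg'
    have h1 : (⟨g⁻¹ * g', h⟩ : H) • (θ : R) = (θ : R) := θ.2 _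
    change (g⁻¹ * g') • (θ : R) = (θ : R) at h1
    calc g • (θ : R) = g • ((g⁻¹ * g') • (θ : R)) := by rw [h1]
      _ = g' • (θ : R) := by rw [smul_smul, mul_inv_cancel_left]

theorem orb_mk (θ : FixedPoints.subring R H) (g : G) :
    orb H θ (QuotientGroup.mk g) = g • (θ : R) := rfl

theorem orb_one (θ : FixedPoints.subring R H) : orb H θ (QuotientGroup.mk 1) = (θ : R) :=
  (orb_mk H θ 1).trans (one_smul G _)

theorem smul_orb (θ : FixedPoints.subring R H) (g : G) (c : G ⧸ H) :
    g • orb H θ c = orb H θ (g • c) := by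
  induction c using QuotientGroup.induction_on with
  | H a => exact smul_smul g a _

noncomputable local instance : Fintype (G ⧸ H) := Fintype.ofFinite _

open scoped Classical

/-- A polynomial over `R` fixed by `G` comes from the invariants. -/
theorem exists_descend (P : R[X]) (hP : ∀ g : G, P.map (MulSemiringAction.toRingHom G R g) = P) :
    ∃ Q : (FixedPoints.subring R G)[X], Q.map (FixedPoints.subring R G).subtype = P := by
  have h : ∀ n, P.coeff n ∈ FixedPoints.subring R G := fun n g => by
    conv_rhs => rw [← hP g]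
    rw [coeff_map]
    rfl
  exact (mem_lifts P).1 (by
    rw [lifts_iff_coeff_lifts]
    exact fun n => ⟨⟨_, h n⟩, rfl⟩)

/-- The orbit polynomial over `R`. -/
noncomputable def FR (θ : FixedPoints.subring R H) : R[X] :=
  ∏ c : G ⧸ H, (X - C (orb H θ c))

theorem FR_invariant (θ : FixedPoints.subring R H) (g : G) :
    (FR H θ).map (MulSemiringAction.toRingHom G R g) = FR H θ := by
  rw [FR, Polynomial.map_prod]
  refine Fintype.prod_equiv (MulAction.toPerm g) _ _ fun c => ?_
  rw [Polynomial.map_sub, map_X, map_C]
  exact congrArg (fun a => X - C a) (smul_orb H θ g c)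

/-- The orbit polynomial over the invariants. -/
noncomputable def FA (θ : FixedPoints.subring R H) : (FixedPoints.subring R G)[X] :=
  (exists_descend _ (FR_invariant H θ)).choose

theorem map_FA (θ : FixedPoints.subring R H) :
    (FA H θ).map (FixedPoints.subring R G).subtype = FR H θ :=
  (exists_descend _ (FR_invariant H θ)).choose_spec

theorem monic_FA (θ : FixedPoints.subring R H) : (FA H θ).Monic :=
  monic_of_injective (f := (FixedPoints.subring R G).subtype) Subtype.val_injective (by
    rw [map_FA]; exact monic_prod_of_monic _ _ fun c _ => monic_X_sub_C _)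

theorem coe_aeval (θ : FixedPoints.subring R H) (P : (FixedPoints.subring R G)[X]) :
    ((aeval θ P : FixedPoints.subring R H) : R) =
      (P.map (FixedPoints.subring R G).subtype).eval (θ : R) := by
  rw [eval_map, aeval_def]
  exact hom_eval₂ P _ (FixedPoints.subring R H).subtype θ

theorem smul_eval (P : (FixedPoints.subring R G)[X]) (g : G) (x : R) :
    g • (P.map (FixedPoints.subring R G).subtype).eval x =
      (P.map (FixedPoints.subring R G).subtype).eval (g • x) := by
  rw [eval_map, eval_map]
  refine (hom_eval₂ P _ (MulSemiringAction.toRingHom G R g) x).trans ?_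
  have h : (MulSemiringAction.toRingHom G R g).comp (FixedPoints.subring R G).subtype =
      (FixedPoints.subring R G).subtype := RingHom.ext fun a => a.2 g
  rw [h]
  rfl

theorem derivative_FR (θ : FixedPoints.subring R H) :
    derivative (FR H θ) = ∑ c : G ⧸ H, ∏ c' ∈ Finset.univ.erase c, (X - C (orb H θ c')) := by
  rw [FR, derivative_prod_finset]
  simp

theorem eval_derivative (θ : FixedPoints.subring R H) (c : G ⧸ H) :
    (derivative (FR H θ)).eval (orb H θ c) =
      ∏ c' ∈ Finset.univ.erase c, (orb H θ c - orb H θ c') := by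
  rw [derivative_FR, eval_finsetSum, Finset.sum_eq_single c]
  · rw [eval_prod]; simp
  · intro d _ hd
    rw [eval_prod]
    exact Finset.prod_eq_zero (Finset.mem_erase.2 ⟨hd.symm, Finset.mem_univ _⟩) (by simp)
  · intro h; exact absurd (Finset.mem_univ c) h

/-- `f'(θ)`. -/
noncomputable def D (θ : FixedPoints.subring R H) : FixedPoints.subring R H :=
  aeval θ (derivative (FA H θ))

theorem coe_D (θ : FixedPoints.subring R H) :
    ((D H θ : FixedPoints.subring R H) : R) =
      ∏ c ∈ Finset.univ.erase (QuotientGroup.mk (1 : G)), ((θ : R) - orb H θ c) := by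
  rw [D, coe_aeval, ← derivative_map, map_FA]
  have := eval_derivative H θ (QuotientGroup.mk (1 : G))
  rwa [orb_one] at this

theorem aeval_FA (θ : FixedPoints.subring R H) : aeval θ (FA H θ) = 0 := by
  apply Subtype.ext
  rw [coe_aeval, map_FA, FR, eval_prod]
  exact Finset.prod_eq_zero (Finset.mem_univ (QuotientGroup.mk (1 : G))) (by simp [orb_one])

/-- Lagrange interpolation over the cosets: `f'(θ) S ⊆ A[θ]`. -/
theorem exists_interp (θ x : FixedPoints.subring R H) :
    ∃ P : (FixedPoints.subring R G)[X], aeval θ P = x * D H θ := by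
  let L : R[X] := ∑ c : G ⧸ H, C (orb H x c) * ∏ c' ∈ Finset.univ.erase c, (X - C (orb H θ c'))
  have hL : ∀ g : G, L.map (MulSemiringAction.toRingHom G R g) = L := by
    intro g
    rw [Polynomial.map_sum]
    refine Fintype.sum_equiv (MulAction.toPerm g) _ _ fun c => ?_
    rw [Polynomial.map_mul, map_C, Polynomial.map_prod]
    congr 1
    · exact congrArg C (smul_orb H x g c)
    · refine Finset.prod_equiv (MulAction.toPerm g) (fun d => ?_) (fun d _ => ?_)
      · simp
      · rw [Polynomial.map_sub, map_X, map_C]
        exact congrArg (fun a => X - C a) (smul_orb H θ g d)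
  obtain ⟨P, hP⟩ := exists_descend L hL
  refine ⟨P, Subtype.ext ?_⟩
  rw [coe_aeval, hP, Subring.coe_mul, coe_D, eval_finsetSum,
    Finset.sum_eq_single (QuotientGroup.mk (1 : G))]
  · rw [eval_mul, eval_C, eval_prod, orb_one]; simp
  · intro d _ hd
    rw [eval_mul, eval_prod]
    exact mul_eq_zero_of_right _
      (Finset.prod_eq_zero (Finset.mem_erase.2 ⟨hd.symm, Finset.mem_univ _⟩) (by simp [orb_one]))
  · intro h; exact absurd (Finset.mem_univ _) h

/-- If `P(θ)` is killed by a power of `f'(θ)`, then `f` divides `P (f')^N`. -/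
theorem dvd_of_kill (θ : FixedPoints.subring R H) (P : (FixedPoints.subring R G)[X]) (N : ℕ)
    (h : aeval θ P * D H θ ^ N = 0) : FA H θ ∣ P * derivative (FA H θ) ^ (N + 1) := by
  have hQ : ∀ c : G ⧸ H, ((P * derivative (FA H θ) ^ N).map
      (FixedPoints.subring R G).subtype).eval (orb H θ c) = 0 := by
    intro c
    induction c using QuotientGroup.induction_on with
    | H g =>
      rw [orb_mk, ← smul_eval, ← coe_aeval, map_mul, map_pow]
      change g • ((aeval θ P * D H θ ^ N : FixedPoints.subring R H) : R) = 0
      rw [h, ZeroMemClass.coe_zero, smul_zero]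
  rw [← map_dvd_map (FixedPoints.subring R G).subtype Subtype.val_injective (monic_FA H θ), map_FA,
    pow_succ, ← mul_assoc, Polynomial.map_mul, ← derivative_map, map_FA, derivative_FR,
    Finset.mul_sum]
  refine Finset.dvd_sum fun c _ => ?_
  rw [FR, ← Finset.mul_prod_erase Finset.univ _ (Finset.mem_univ c)]
  exact mul_dvd_mul_right (dvd_iff_isRoot.2 (hQ c)) _

/-- The standard etale pair `(f, f')`. -/
noncomputable def pair (θ : FixedPoints.subring R H) :
    StandardEtalePair (FixedPoints.subring R G) where
  f := FA H θ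
  monic_f := monic_FA H θ
  g := derivative (FA H θ)
  cond := ⟨1, 0, 1, by ring⟩

theorem aeval_loc (θ : FixedPoints.subring R H) (Q : (FixedPoints.subring R G)[X]) :
    aeval (algebraMap (FixedPoints.subring R H) (Localization.Away (D H θ)) θ) Q =
      algebraMap (FixedPoints.subring R H) (Localization.Away (D H θ)) (aeval θ Q) :=
  aeval_algebraMap_apply _ _ _

theorem hasMap (θ : FixedPoints.subring R H) :
    (pair H θ).HasMap (algebraMap (FixedPoints.subring R H) (Localization.Away (D H θ)) θ) := by
  refine ⟨?_, ?_⟩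
  · change aeval _ (FA H θ) = 0
    rw [aeval_loc, aeval_FA, map_zero]
  · change IsUnit (aeval _ (derivative (FA H θ)))
    rw [aeval_loc]
    exact IsLocalization.map_units _ (⟨D H θ, 1, pow_one _⟩ : Submonoid.powers (D H θ))

theorem lift_bijective (θ : FixedPoints.subring R H) :
    Function.Bijective ((pair H θ).lift _ (hasMap H θ)) := by
  set φ := (pair H θ).lift _ (hasMap H θ) with hφ
  have hX : ∀ Q : (FixedPoints.subring R G)[X], φ (aeval (pair H θ).X Q) =
      algebraMap (FixedPoints.subring R H) (Localization.Away (D H θ)) (aeval θ Q) := by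
    intro Q
    rw [← aeval_algHom_apply, hφ, StandardEtalePair.lift_X, aeval_loc]
  have hu : IsUnit (aeval (pair H θ).X (derivative (FA H θ))) := StandardEtalePair.hasMap_X.2
  refine ⟨(injective_iff_map_eq_zero _).2 fun b hb => ?_, fun y => ?_⟩
  · let pres : StandardEtalePresentation (FixedPoints.subring R G) (pair H θ).Ring :=
      { P := pair H θ
        x := (pair H θ).X
        hasMap := StandardEtalePair.hasMap_X
        lift_bijective := by rw [StandardEtalePair.lift_X_left]; exact Function.bijective_id }
    obtain ⟨P, n, hn⟩ := pres.exists_mul_aeval_x_g_pow_eq_aeval_x b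
    have hn' : b * aeval (pair H θ).X (derivative (FA H θ)) ^ n = aeval (pair H θ).X P := hn
    have h0 : algebraMap (FixedPoints.subring R H) (Localization.Away (D H θ)) (aeval θ P) = 0 := by
      rw [← hX, ← hn', map_mul, hb, zero_mul]
    obtain ⟨⟨_, N, rfl⟩, hN⟩ :=
      (IsLocalization.map_eq_zero_iff (Submonoid.powers (D H θ)) _ _).1 h0
    obtain ⟨Q, hQ⟩ := dvd_of_kill H θ P N (by rw [mul_comm]; exact hN)
    have h1 := congrArg (aeval (pair H θ).X) hQ
    have hf : aeval (pair H θ).X (FA H θ) = 0 := StandardEtalePair.hasMap_X.1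
    rw [map_mul, map_mul, map_pow, hf, zero_mul, ← hn', mul_assoc, ← pow_add] at h1
    exact (hu.pow _).mul_left_eq_zero.1 h1
  · obtain ⟨⟨s, ⟨_, k, rfl⟩⟩, hy⟩ := IsLocalization.surj (Submonoid.powers (D H θ)) y
    obtain ⟨P, hP⟩ := exists_interp H θ s
    refine ⟨aeval (pair H θ).X P * ↑((hu.pow (k + 1)).unit⁻¹), ?_⟩
    rw [map_mul]
    have h1 : φ ↑((hu.pow (k + 1)).unit⁻¹) *
        φ (aeval (pair H θ).X (derivative (FA H θ)) ^ (k + 1)) = 1 := by
      rw [← map_mul, IsUnit.val_inv_mul, map_one]
    rw [map_pow, hX] at h1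
    rw [hX, hP, map_mul, ← hy]
    change y * algebraMap _ _ (D H θ ^ k) * algebraMap _ _ (D H θ) * _ = y
    rw [map_pow, mul_assoc y, ← pow_succ, mul_assoc, mul_comm (_ ^ (k + 1))]
    exact (congrArg (y * ·) h1).trans (mul_one y)

/-- `S[1/f'(θ)]` is standard etale over the invariants. -/
theorem etale_away (θ : FixedPoints.subring R H) :
    Algebra.Etale (FixedPoints.subring R G) (Localization.Away (D H θ)) :=
  Algebra.Etale.of_equiv (AlgEquiv.ofBijective _ (lift_bijective H θ))

/-- `f'(θ)` avoids `q` as soon as the other conjugates of `θ` differ from it modulo `q`. -/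
theorem D_not_mem (θ : FixedPoints.subring R H) (q : Ideal R) [q.IsPrime]
    (hθ : ∀ g : G, g ∉ H → (θ : R) - g • (θ : R) ∉ q) : (D H θ : R) ∉ q := by
  rw [coe_D, Ideal.IsPrime.prod_mem_iff]
  rintro ⟨c, hc, hmem⟩
  obtain ⟨g, rfl⟩ := QuotientGroup.mk_surjective c
  rw [orb_mk] at hmem
  refine hθ g (fun hg => (Finset.mem_erase.1 hc).1 ?_) hmem
  rw [QuotientGroup.eq]
  simpa using H.inv_mem hg

end Groth.L27.InvEtale
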