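import Groth.Agent.L27.InvEtale.Points
import Mathlib.RingTheory.Flat.Localization
import Mathlib.RingTheory.Flat.FaithfullyFlat.Algebra
import Mathlib.RingTheory.Smooth.Flat
import Mathlib.RingTheory.Etale.Basic
import Mathlib.RingTheory.Localization.AtPrime.Basic

/-!
# The decomposition ring has the same completion as the ring of invariants
-/

set_option autoImplicit false
set_option linter.style.haveILetI false
set_option backward.isDefEq.respectTransparency.types false

universe u

open Polynomial Pi1 Pointwise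

namespace Groth.L27.InvEtale

variable {G R : Type u} [Group G] [Finite G] [CommRing R] [MulSemiringAction G R] (H : Subgroup G)
  (q : Ideal R) [q.IsPrime]

open scoped Classical

/-- The trace to the invariants. -/
theorem exists_trace (x : FixedPoints.subring R H) (hx : ∀ g : G, g ∉ H → g • (x : R) ∈ q) :
    ∃ a : FixedPoints.subring R G, (a : R) - (x : R) ∈ q := by
  letI := Fintype.ofFinite (G ⧸ H)
  refine ⟨⟨∑ c, orb H x c, fun g => ?_⟩, ?_⟩
  · rw [Finset.smul_sum]
    exact Fintype.sum_equiv (MulAction.toPerm g) _ _ fun c => smul_orb H x g c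
  · change (∑ c, orb H x c) - (x : R) ∈ q
    rw [← Finset.add_sum_erase Finset.univ _ (Finset.mem_univ (QuotientGroup.mk (1 : G))), orb_one,
      add_sub_cancel_left]
    refine Ideal.sum_mem _ fun c hc => ?_
    obtain ⟨g, rfl⟩ := QuotientGroup.mk_surjective c
    rw [orb_mk]
    refine hx g fun hg => (Finset.mem_erase.1 hc).1 ?_
    rw [QuotientGroup.eq]
    simpa using H.inv_mem hg

theorem sub_mul_pow_mem (θ : FixedPoints.subring R H) (hθ : ∀ g : G, g ∉ H → g • (θ : R) ∈ q)
    (a : FixedPoints.subring R G) (ha : (a : R) - (θ : R) ∈ q) :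
    ∃ n : ℕ, (θ - algebraMap _ (FixedPoints.subring R H) a) * θ ^ n ∈
      (q.comap (FixedPoints.subring R G).subtype).map
        (algebraMap (FixedPoints.subring R G) (FixedPoints.subring R H)) := by
  letI := Fintype.ofFinite (G ⧸ H)
  let p := q.comap (FixedPoints.subring R G).subtype
  set c₀ : G ⧸ H := QuotientGroup.mk (1 : G) with hc₀
  refine ⟨(Finset.univ.erase c₀).card, ?_⟩
  let P : (FixedPoints.subring R G)[X] := (X - C a) * X ^ (Finset.univ.erase c₀).card - FA H θ
  have hP : ∀ i, P.coeff i ∈ p := by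
    intro i
    have h : (P.map (FixedPoints.subring R G).subtype).map (Ideal.Quotient.mk q) = 0 := by
      rw [Polynomial.map_sub, map_FA, Polynomial.map_sub, sub_eq_zero, Polynomial.map_mul,
        Polynomial.map_sub, map_X, map_C, Polynomial.map_pow, map_X, Polynomial.map_mul,
        Polynomial.map_sub, map_X, map_C, Polynomial.map_pow, map_X, FR,
        ← Finset.mul_prod_erase Finset.univ _ (Finset.mem_univ c₀), Polynomial.map_mul,
        Polynomial.map_prod]
      congr 1
      · rw [Polynomial.map_sub, map_X, map_C, hc₀, orb_one]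
        exact congrArg (fun r => X - C r) (Ideal.Quotient.eq.2 ha)
      · rw [← Finset.prod_const]
        refine Finset.prod_congr rfl fun c hc => ?_
        obtain ⟨g, rfl⟩ := QuotientGroup.mk_surjective c
        rw [Polynomial.map_sub, map_X, map_C, orb_mk,
          Ideal.Quotient.eq_zero_iff_mem.2 (hθ g fun hg => (Finset.mem_erase.1 hc).1 (by
            rw [hc₀, QuotientGroup.eq]; simpa using H.inv_mem hg)), C_0, sub_zero]
    have := congrArg (fun Q => Q.coeff i) h
    simp only [coeff_map, coeff_zero] at this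
    exact (Ideal.Quotient.eq_zero_iff_mem (I := q)).1 this
  have h2 : aeval θ P ∈ p.map (algebraMap (FixedPoints.subring R G) (FixedPoints.subring R H)) := by
    rw [aeval_eq_sum_range]
    refine Ideal.sum_mem _ fun i _ => ?_
    rw [Algebra.smul_def]
    exact Ideal.mul_mem_right _ _ (Ideal.mem_map_of_mem _ (hP i))
  rw [map_sub, aeval_FA, sub_zero, map_mul, map_pow, map_sub, aeval_X, aeval_C] at h2
  exact h2

theorem localRingHom_mod_pow (hD : MulAction.stabilizer G q ≤ H)
    (hle : FixedPoints.subring R G ≤ FixedPoints.subring R H) (n : ℕ) :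
    let q' : Ideal (FixedPoints.subring R H) := Ideal.comap (FixedPoints.subring R H).subtype q
    let φ := Localization.localRingHom (Ideal.comap (Subring.inclusion hle) q') q' (Subring.inclusion hle) rfl
    Function.Surjective ((Ideal.Quotient.mk (IsLocalRing.maximalIdeal (Localization.AtPrime q') ^ n)).comp φ) ∧
      Ideal.comap φ (IsLocalRing.maximalIdeal (Localization.AtPrime q') ^ n) =
        IsLocalRing.maximalIdeal (Localization.AtPrime (Ideal.comap (Subring.inclusion hle) q')) ^ n := by
  intro q' φ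
  let A := FixedPoints.subring R G
  let S := FixedPoints.subring R H
  let p : Ideal A := Ideal.comap (Subring.inclusion hle) q'
  let Ap := Localization.AtPrime p
  let Sq := Localization.AtPrime q'
  obtain ⟨θ, hθq, hθv⟩ := exists_orbit_sep q H hD
  have hDθ : D H θ ∈ q'.primeCompl := D_not_mem H θ q fun g hg h => hθq (by
    simpa using q.add_mem h (hθv g hg))
  have hθu : IsUnit (algebraMap S Sq θ) :=
    IsLocalization.map_units Sq (⟨θ, hθq⟩ : q'.primeCompl)
  have hDu : IsUnit (algebraMap S Sq (D H θ)) :=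
    IsLocalization.map_units Sq (⟨D H θ, hDθ⟩ : q'.primeCompl)
  have hφ : ∀ a : A, φ (algebraMap A Ap a) = algebraMap S Sq (algebraMap A S a) :=
    fun a => Localization.localRingHom_to_map _ _ _ rfl a
  obtain ⟨a, ha⟩ := exists_trace H q θ hθv
  have hap : a ∈ p.primeCompl := fun h => hθq (by simpa using q.sub_mem h ha)
  -- the maximal ideal
  let J : Ideal Sq := (IsLocalRing.maximalIdeal Ap).map φ
  have hJ : ∀ r ∈ p, algebraMap S Sq (algebraMap A S r) ∈ J := fun r hr => by
    rw [← hφ]
    refine Ideal.mem_map_of_mem φ ?_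
    rw [← IsLocalization.AtPrime.map_eq_maximalIdeal p Ap]
    exact Ideal.mem_map_of_mem _ hr
  have hθa : algebraMap S Sq (θ - algebraMap A S a) ∈ J := by
    obtain ⟨N, hN⟩ := sub_mul_pow_mem H q θ hθv a ha
    have h1 : algebraMap S Sq ((θ - algebraMap A S a) * θ ^ N) ∈ J := by
      refine (show (p.map (algebraMap A S)).map (algebraMap S Sq) ≤ J from ?_)
        (Ideal.mem_map_of_mem _ hN)
      rw [Ideal.map_map, Ideal.map_le_iff_le_comap]
      exact fun r hr => hJ r hr
    rw [map_mul, map_pow] at h1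
    exact (Ideal.mul_unit_mem_iff_mem _ (hθu.pow N)).1 h1
  have hm : IsLocalRing.maximalIdeal Sq = J := by
    refine le_antisymm ?_ (Ideal.map_le_iff_le_comap.2 fun x hx =>
      (IsLocalRing.mem_maximalIdeal _).2 fun hu => (IsLocalRing.mem_maximalIdeal x).1 hx
        (IsLocalHom.map_nonunit x hu))
    rw [← IsLocalization.AtPrime.map_eq_maximalIdeal q' Sq, Ideal.map_le_iff_le_comap]
    intro s hs
    refine Ideal.mem_comap.2 ((Ideal.mul_unit_mem_iff_mem _ hDu).1 ?_)
    rw [← map_mul]
    obtain ⟨P, hP⟩ := exists_interp H θ s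
    rw [← hP]
    have hd : θ - algebraMap A S a ∣ aeval θ P - algebraMap A S (P.eval a) := by
      rw [← aeval_algebraMap_apply_eq_algebraMap_eval]
      simpa [eval_map, aeval_def] using sub_dvd_eval_sub θ (algebraMap A S a) (P.map (algebraMap A S))
    obtain ⟨t, ht⟩ := hd
    have hpa : P.eval a ∈ p := by
      change algebraMap A S (P.eval a) ∈ q'
      have h1 : aeval θ P ∈ q' := by rw [hP]; exact q'.mul_mem_right _ hs
      have h2 : (θ - algebraMap A S a) * t ∈ q' := q'.mul_mem_right _ (by
        change (θ : R) - (a : R) ∈ q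
        simpa using q.neg_mem ha)
      rw [← ht] at h2
      simpa using q'.sub_mem h1 h2
    rw [show aeval θ P = (θ - algebraMap A S a) * t + algebraMap A S (P.eval a) by
      rw [← ht]; exact (sub_add_cancel _ _).symm, map_add, map_mul]
    exact J.add_mem (J.mul_mem_right _ hθa) (hJ _ hpa)
  -- the residue fields
  have hres : ∀ y : Sq, ∃ b : Ap, y - φ b ∈ J := by
    have hS : ∀ s : S, ∃ b : Ap, algebraMap S Sq s - φ b ∈ J := by
      intro s
      obtain ⟨a', ha'⟩ := exists_trace H q (s * θ) fun g hg => by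
        rw [Subring.coe_mul, smul_mul']
        exact q.mul_mem_left _ (hθv g hg)
      refine ⟨IsLocalization.mk' Ap a' ⟨a, hap⟩, ?_⟩
      rw [← hm]
      have hu : IsUnit (algebraMap S Sq (algebraMap A S a)) := by
        rw [← hφ]; exact (IsLocalization.map_units Ap (⟨a, hap⟩ : p.primeCompl)).map φ
      refine (Ideal.mul_unit_mem_iff_mem _ hu).1 ?_
      rw [sub_mul, ← map_mul]
      conv in φ _ * _ => rw [← hφ, ← map_mul, IsLocalization.mk'_spec, hφ]
      rw [← map_sub, IsLocalization.AtPrime.to_map_mem_maximal_iff Sq q']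
      change (s : R) * (a : R) - (a' : R) ∈ q
      rw [show (s : R) * (a : R) - (a' : R) =
        (s : R) * ((a : R) - (θ : R)) - ((a' : R) - (s : R) * (θ : R)) by ring]
      exact q.sub_mem (q.mul_mem_left _ ha) ha'
    intro y
    obtain ⟨⟨s, t⟩, rfl⟩ := IsLocalization.mk'_surjective q'.primeCompl y
    obtain ⟨b, hb⟩ := hS s
    obtain ⟨c, hc⟩ := hS t
    have htu : IsUnit (algebraMap S Sq t) := IsLocalization.map_units Sq t
    have hcu : IsUnit c := by
      by_contra hcu
      have h1 : φ c ∈ J := Ideal.mem_map_of_mem φ ((IsLocalRing.mem_maximalIdeal c).2 hcu)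
      have h2 : algebraMap S Sq t ∈ J := by simpa using J.add_mem hc h1
      rw [← hm] at h2
      exact (IsLocalRing.mem_maximalIdeal _).1 h2 htu
    refine ⟨b * ↑hcu.unit⁻¹, (Ideal.mul_unit_mem_iff_mem _ htu).1 ?_⟩
    rw [sub_mul, IsLocalization.mk'_spec]
    have hc1 : φ ↑hcu.unit⁻¹ * φ c = 1 := by rw [← map_mul, IsUnit.val_inv_mul, map_one]
    rw [show algebraMap S Sq s - φ (b * ↑hcu.unit⁻¹) * algebraMap S Sq t =
      (algebraMap S Sq s - φ b) - φ b * φ ↑hcu.unit⁻¹ * (algebraMap S Sq t - φ c) by
        rw [map_mul]; linear_combination -(φ b) * hc1]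
    exact J.sub_mem hb (J.mul_mem_left _ hc)
  -- surjectivity
  have hsurj : ∀ (k : ℕ) (y : Sq), ∃ b : Ap, y - φ b ∈ J ^ k := by
    intro k
    induction k with
    | zero => exact fun y => ⟨0, by simp⟩
    | succ k ih =>
      have hk : ∀ z ∈ J ^ k, ∃ c : Ap, z - φ c ∈ J ^ (k + 1) := by
        intro z hz
        rw [← Ideal.map_pow] at hz
        refine Submodule.span_induction (p := fun z _ => ∃ c : Ap, z - φ c ∈ J ^ (k + 1))
          ?_ ⟨0, by simp⟩ ?_ ?_ hz
        · rintro _ ⟨r, -, rfl⟩; exact ⟨r, by simp⟩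
        · rintro z w - - ⟨c, hc⟩ ⟨d, hd⟩
          refine ⟨c + d, ?_⟩
          rw [map_add, show z + w - (φ c + φ d) = (z - φ c) + (w - φ d) by ring]
          exact Ideal.add_mem _ hc hd
        · rintro r z hz ⟨c, hc⟩
          obtain ⟨b, hb⟩ := hres r
          refine ⟨b * c, ?_⟩
          rw [map_mul, smul_eq_mul, show r * z - φ b * φ c = (r - φ b) * z + φ b * (z - φ c) by ring]
          refine Ideal.add_mem _ ?_ (Ideal.mul_mem_left _ _ hc)
          rw [pow_succ']
          refine Ideal.mul_mem_mul hb ?_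
          rw [← Ideal.map_pow]
          exact hz
      intro y
      obtain ⟨b, hb⟩ := ih y
      obtain ⟨c, hc⟩ := hk _ hb
      exact ⟨b + c, by rwa [map_add, ← sub_sub]⟩
  refine ⟨fun y => ?_, ?_⟩
  · obtain ⟨y, rfl⟩ := Ideal.Quotient.mk_surjective y
    obtain ⟨b, hb⟩ := hsurj n y
    refine ⟨b, (Ideal.Quotient.eq.2 ?_).symm⟩
    rwa [hm]
  -- flatness
  haveI := etale_away H θ
  let L := Localization.Away (D H θ)
  letI : Algebra L Sq := (IsLocalization.Away.lift (D H θ) hDu).toAlgebra
  haveI : IsScalarTower S L Sq :=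
    IsScalarTower.of_algebraMap_eq fun s => (IsLocalization.Away.lift_eq (D H θ) hDu s).symm
  haveI : IsScalarTower A L Sq := IsScalarTower.of_algebraMap_eq fun r => by
    change algebraMap S Sq (algebraMap A S r) = algebraMap L Sq (algebraMap A L r)
    rw [IsScalarTower.algebraMap_apply A S L, ← IsScalarTower.algebraMap_apply S L Sq]
  haveI := IsLocalization.isLocalization_of_submonoid_le L Sq (Submonoid.powers (D H θ)) q'.primeCompl
    ((Submonoid.powers_le).2 hDθ)
  haveI : Module.Flat L Sq := IsLocalization.flat Sq (q'.primeCompl.map (algebraMap S L))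
  haveI : Module.Flat A Sq := Module.Flat.trans A L Sq
  letI : Algebra Ap Sq := φ.toAlgebra
  haveI : IsScalarTower A Ap Sq := IsScalarTower.of_algebraMap_eq fun r => (hφ r).symm
  haveI : Module.Flat Ap Sq :=
    (Module.flat_iff_of_isLocalization Ap p.primeCompl Sq).2 inferInstance
  haveI : IsLocalHom (algebraMap Ap Sq) := inferInstanceAs (IsLocalHom φ)
  haveI : Module.FaithfullyFlat Ap Sq := Module.FaithfullyFlat.of_flat_of_isLocalHom
  rw [hm, ← Ideal.map_pow]
  exact Ideal.comap_map_eq_self_of_faithfullyFlat (B := Sq) _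

end Groth.L27.InvEtale
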